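import Groth.Agent.Lib.AVMulN
import Groth.Agent.Lib.AVDual
import Groth.Agent.NormX.ProperDescent
import Groth.Agent.NormX.NormalAmple
import Groth.Agent.AmpleX.Generated
import Groth.Agent.AmpleX.Basis

/-! Ampleness on abelian varieties is unchanged by additive classes. -/

set_option linter.style.haveILetI false
set_option backward.isDefEq.respectTransparency false
set_option backward.isDefEq.respectTransparency.types false
set_option maxHeartbeats 1000000

universe u

open CategoryTheory MonoidalCategory CartesianMonoidalCategory MonObj AlgebraicGeometry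

namespace Groth.Agent.AVTwistLib

open Groth.Agent Groth.Agent.H23 Groth.Agent.AVCube
open scoped Groth.Agent.H23.PicMul

variable {k : Type u} [Field k] {A : Over (Spec (CommRingCat.of k))} [GrpObj A] [IsProper A.hom]
  [GeometricallyIntegral A.hom] {L : A.left.Modules} (hL : PicF.IsInvertible L)

/-- Pullback of a class along a power of the identity. -/
theorem pc_pow_general : ∀ n : ℕ,
    pc hL (𝟙 A ^ n) = pc hL (𝟙 A) ^ ((n + 1).choose 2) * pc hL ((𝟙 A)⁻¹ : A ⟶ A) ^ (n.choose 2)
  | 0 => by rw [pow_zero, pc_one]; simp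
  | 1 => by rw [pow_one]; simp
  | n + 2 => by
    have h1 := pc_pow_general (n + 1)
    have h0 := pc_pow_general n
    have h := cube_rel hL (𝟙 A ^ (n + 1)) (𝟙 A) ((𝟙 A)⁻¹)
    rw [mul_inv_cancel_right, mul_inv_cancel, pc_one, ← pow_succ, show 𝟙 A ^ (n + 1) * (𝟙 A)⁻¹ = 𝟙 A ^ n by
      rw [pow_succ, mul_inv_cancel_right], h1, h0, _root_.mul_one] at h
    generalize pc hL (𝟙 A) = a at h ⊢
    generalize pc hL ((𝟙 A)⁻¹ : A ⟶ A) = b at h ⊢
    generalize pc hL (𝟙 A ^ (n + 2)) = P at h ⊢
    refine mul_right_cancel (b := a ^ ((n + 1).choose 2) * b ^ (n.choose 2)) ?_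
    rw [← h]
    have e1 : ∀ m : ℕ, (m + 1).choose 2 = m + m.choose 2 := fun m => by
      rw [Nat.choose_succ_succ, Nat.choose_one_right]
    rw [_root_.mul_mul_mul_comm (a ^ (n + 2 + 1).choose 2), ← pow_add, ← pow_add, _root_.mul_mul_mul_comm, ← pow_add, ← pow_add,
      _root_.mul_right_comm (a ^ _), ← pow_succ, _root_.mul_assoc, ← pow_succ]
    have h2 := e1 n
    have h3 := e1 (n + 1)
    have h4 := e1 (n + 2)
    simp only [Nat.add_assoc, Nat.reduceAdd] at h2 h3 h4 ⊢
    congr 2 <;> omega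

/-- Additive classes: pullback along a product of maps. -/
theorem pc_mul_of_additive {N : A.left.Modules} (hN : PicF.IsInvertible N)
    (hadd : Nonempty ((Scheme.Modules.pullback μ[A].left).obj N ≅
      CohB1.tensorMod ((Scheme.Modules.pullback (fst A A).left).obj N) ((Scheme.Modules.pullback (snd A A).left).obj N)))
    {T : Over (Spec (CommRingCat.of k))} (f g : T ⟶ A) : pc hN (f * g) = pc hN f * pc hN g := by
  have h : pc hN μ[A] = pc hN (fst A A) * pc hN (snd A A) := by
    ext
    rw [Units.val_mul, val_pc, val_pc, val_pc, PicMul.cl_eq_iff.mpr hadd, PicMul.cl_tensor]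
  have h' := congrArg (Units.map (PicMul.pullHom (lift f g).left : PicF.Cl (A ⊗ A).left →* PicF.Cl T.left)) h
  rw [map_mul, pull_pc, pull_pc, pull_pc, lift_fst, lift_snd] at h'
  exact h'

theorem isAmple_tensor_additive {N : A.left.Modules} (hL : CohB1.IsAmple L) (hN : PicF.IsInvertible N)
    (hadd : Nonempty ((Scheme.Modules.pullback μ[A].left).obj N ≅
      CohB1.tensorMod ((Scheme.Modules.pullback (fst A A).left).obj N) ((Scheme.Modules.pullback (snd A A).left).obj N))) :
    CohB1.IsAmple (CohB1.tensorMod L N) := by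
  haveI : CompactSpace A.left := QuasiCompact.compactSpace_of_compactSpace A.hom
  haveI : A.left.IsSeparated := ⟨by
    rw [← Limits.terminal.comp_from A.hom]
    infer_instance⟩
  let inv : A ⟶ A := (𝟙 A)⁻¹
  haveI : IsIso inv.left := by
    have h : inv ≫ inv = 𝟙 A := by simp [inv, GrpObj.comp_inv]
    haveI : IsIso inv := ⟨⟨inv, h, h⟩⟩
    exact inferInstanceAs (IsIso ((Over.forget _).map inv))
  let Li := (Scheme.Modules.pullback inv.left).obj L
  have hLi : CohB1.IsAmple Li := NormX.isAmple_pullback_affine inv.left hL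
  have hS : CohB1.IsAmple (CohB1.tensorMod L Li) := by
    refine AmpleX.isAmple_tensor hL hLi.1 fun x => ?_
    obtain ⟨m, hm, s, hs, -⟩ := (AmpleX.isAmple_iff.1 hLi).2.2 x
    obtain ⟨j, rfl⟩ := Nat.exists_eq_add_of_le' (show 1 ≤ m by omega)
    exact ⟨j, s, hs⟩
  obtain ⟨m, -, hm⟩ := AmpleX.eventually_ample_tensor hS (InvX.isInvertible_tensorMod hL.1 hN)
  let E := CohB1.tensorMod (CohB1.tensorPow (CohB1.tensorMod L Li) m) (CohB1.tensorMod L N)
  have hE : CohB1.IsAmple E := (hm m le_rfl).1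
  let n := 2 * m + 1
  haveI := AVMulN.isFinite_pow (A := A) n (by omega)
  haveI := AVMulN.surjective_pow (A := A) n (by omega)
  refine NormX.isAmple_of_finite_surjective A.hom (𝟙 A ^ n : A ⟶ A).left (InvX.isInvertible_tensorMod hL.1 hN) ?_
  refine AmpleX.isAmple_of_iso ((PicGrp.cl_eq_cl_iff _ _).1 ?_).some.symm (AmpleX.isAmple_tensorPow hE (n := n) (by omega))
  have hNn : ∀ j : ℕ, pc hN (𝟙 A ^ j) = pc hN (𝟙 A) ^ j := fun j => by
    induction j with
    | zero => rw [pow_zero, pow_zero, pc_one]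
    | succ j ih => rw [pow_succ, pc_mul_of_additive hN hadd, ih, pow_succ]
  have hl : PicF.cl ((Scheme.Modules.pullback (𝟙 A ^ n : A ⟶ A).left).obj (CohB1.tensorMod L N)) =
      ((pc hL.1 (𝟙 A ^ n) * pc hN (𝟙 A ^ n) : (PicF.Cl A.left)ˣ) : PicF.Cl A.left) := by
    rw [Units.val_mul, val_pc', val_pc']
    show PicMul.pullHom (𝟙 A ^ n : A ⟶ A).left (PicF.cl (CohB1.tensorMod L N)) = _
    rw [PicMul.cl_tensor, map_mul]
    rfl
  have hr : PicF.cl (CohB1.tensorPow E n) =
      ((((pc hL.1 (𝟙 A) * pc hL.1 inv) ^ m * (pc hL.1 (𝟙 A) * pc hN (𝟙 A))) ^ n : (PicF.Cl A.left)ˣ) : PicF.Cl A.left) := by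
    simp only [E, Li, PicMul.cl_tensor, PicMul.cl_tensorPow, Units.val_pow_eq_pow_val, Units.val_mul, val_pc_id]
    rfl
  rw [hl, hr, hNn, pc_pow_general]
  congr 1
  have e1 : (n + 1).choose 2 = (m + 1) * n := by
    rw [Nat.choose_two_right]
    exact Nat.div_eq_of_eq_mul_left two_pos (by simp only [n, Nat.add_sub_cancel]; ring)
  have e2 : n.choose 2 = m * n := by
    rw [Nat.choose_two_right]
    exact Nat.div_eq_of_eq_mul_left two_pos (by simp only [n, Nat.add_sub_cancel]; ring)
  rw [e1, e2, pow_mul, pow_mul, ← mul_pow, ← mul_pow]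
  congr 1
  rw [mul_pow, pow_succ]
  simp only [inv, _root_.mul_assoc, _root_.mul_comm, _root_.mul_left_comm]

end Groth.Agent.AVTwistLib
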